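import Groth.Agent.MultKerLib.Core
import Groth.Agent.DiagHopfLib.Descent

set_option autoImplicit false

/-!
Closed subgroups with trivial closed fibre of groups of multiplicative type over a local ring.
-/

noncomputable section

universe u w

open scoped TensorProduct
open Groth.Agent.TorusField Groth.Agent.DiagHopf

namespace Groth.Agent.MultKer

variable {R : Type u} [CommRing R] {A : Type u} [CommRing A] [HopfAlgebra R A]

theorem theta_top {M : Type u} [AddCommGroup M] {L : Type u} [CommRing L] [Algebra R L] (E : Split R A M L)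
    (z : L ⊗[R] A) : theta E ⊤ z = algebraMap L _ (ev1 R A L z) := by
  refine DFunLike.congr_fun (?_ : theta E ⊤ = (Algebra.ofId L _).comp (ev1 R A L)) z
  refine AlgHom.toLinearMap_injective (E.e.ext fun m => ?_)
  show theta E ⊤ (E.e m) = algebraMap L _ (ev1 R A L (E.e m))
  rw [theta_e, (E.gl m).2, map_one, MonoidAlgebra.one_def]
  exact congrArg (MonoidAlgebra.single · (1 : L)) (congrArg Multiplicative.ofAdd
    ((QuotientAddGroup.eq_zero_iff m).2 (AddSubgroup.mem_top m)))

theorem quotExt_sub_ev1_mem {L : Type u} [CommRing L] [Algebra R L] (J : Ideal A) (I : Ideal L)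
    (h : ∀ a : A, Coalgebra.counit (R := R) a = 0 → quotExt L J ((1 : L) ⊗ₜ[R] a) ∈
      I.map (algebraMap L (L ⊗[R] (A ⧸ J)))) (z : L ⊗[R] A) :
    quotExt L J z - algebraMap L _ (ev1 R A L z) ∈ I.map (algebraMap L (L ⊗[R] (A ⧸ J))) := by
  induction z using TensorProduct.induction_on with
  | zero => simp
  | add a b ha hb => simp only [map_add, add_sub_add_comm]; exact add_mem ha hb
  | tmul s a =>
    have h0 := h (a - algebraMap R A (Coalgebra.counit a)) (by simp)
    have e : quotExt L J (s ⊗ₜ[R] a) - algebraMap L _ (ev1 R A L (s ⊗ₜ[R] a)) =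
        algebraMap L _ s * quotExt L J ((1 : L) ⊗ₜ[R] (a - algebraMap R A (Coalgebra.counit a))) := by
      simp only [quotExt, Algebra.TensorProduct.map_tmul, AlgHom.id_apply, Ideal.Quotient.mkₐ_eq_mk, map_sub,
        Ideal.Quotient.mk_algebraMap, TensorProduct.tmul_sub, mul_sub, Algebra.TensorProduct.algebraMap_apply,
        Algebra.TensorProduct.tmul_mul_tmul, one_mul, mul_one, ev1, Algebra.TensorProduct.lift_tmul]
      rw [Algebra.algebraMap_eq_smul_one (R := R) (A := A ⧸ J), TensorProduct.tmul_smul, TensorProduct.smul_tmul',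
        Algebra.smul_def, mul_comm]
      rfl
    rw [e]
    exact Ideal.mul_mem_left _ _ h0

theorem eq_augIdeal_of_fibre [IsLocalRing R] (hft : Algebra.FiniteType R A) (hH : SGA3b.IsMultType R A)
    (J : Ideal A) [J.IsHopfIdeal R]
    (hs : J ⊔ Ideal.map (algebraMap R A) (IsLocalRing.maximalIdeal R) =
      RingHom.ker (Bialgebra.counitAlgHom R A) ⊔ Ideal.map (algebraMap R A) (IsLocalRing.maximalIdeal R)) :
    J = RingHom.ker (Bialgebra.counitAlgHom R A) := by
  classical
  haveI := hft
  have hJle : ∀ a ∈ J, Coalgebra.counit (R := R) a = 0 := fun a ha =>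
    Submodule.IsCoideal.counit_eq_zero (I := Submodule.restrictScalars R J) ha
  refine le_antisymm (fun a ha => hJle a ha) fun a ha => ?_
  obtain ⟨S, _, _, N₀, _, hff, ⟨E⟩⟩ := exists_split_of_isLocalRing hH
  haveI := hff
  obtain ⟨P, hP⟩ := PrimeSpectrum.comap_surjective_of_faithfullyFlat (B := S)
    ⟨IsLocalRing.maximalIdeal R, inferInstance⟩
  let L := Localization.AtPrime P.asIdeal
  let fL : S →ₐ[R] L := IsScalarTower.toAlgHom R S L
  obtain ⟨EL, -⟩ := exists_split_push E fL
  haveI : Module.Flat S L := IsLocalization.flat _ P.asIdeal.primeCompl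
  haveI : Module.Flat R L := Module.Flat.trans R S L
  haveI : IsLocalHom (algebraMap R L) := by
    refine ((IsLocalRing.local_hom_TFAE (algebraMap R L)).out 0 4).mpr ?_
    rw [IsScalarTower.algebraMap_eq R S L, ← Ideal.comap_comap, show Ideal.comap (algebraMap S L) (IsLocalRing.maximalIdeal L) = P.asIdeal from
      IsLocalization.AtPrime.under_maximalIdeal L P.asIdeal]
    exact congrArg PrimeSpectrum.asIdeal hP
  haveI : Module.FaithfullyFlat R L := Module.FaithfullyFlat.of_flat_of_isLocalHom
  haveI : AddGroup.FG (Additive N₀) := AddGroup.fg_iff_addMonoid_fg.2 (fg_of_split' EL)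
  have hcon : Contains EL J ⊤ := fun b hb => by
    rw [theta_top, ev1, Algebra.TensorProduct.lift_tmul]
    simp [hJle b hb]
  have hm : ∀ b : A, Coalgebra.counit (R := R) b = 0 → quotExt L J ((1 : L) ⊗ₜ[R] b) ∈
      (IsLocalRing.maximalIdeal L).map (algebraMap L (L ⊗[R] (A ⧸ J))) := by
    intro b hb
    have hle : J ⊔ Ideal.map (algebraMap R A) (IsLocalRing.maximalIdeal R) ≤
        Ideal.comap (((quotExt (R := R) L J).restrictScalars R).comp
          (Algebra.TensorProduct.includeRight : A →ₐ[R] L ⊗[R] A))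
          ((IsLocalRing.maximalIdeal L).map (algebraMap L (L ⊗[R] (A ⧸ J)))) := by
      refine sup_le (fun j hj => ?_) (Ideal.map_le_iff_le_comap.2 fun r hr => ?_)
      · rw [Ideal.mem_comap]
        simp [quotExt, (Ideal.Quotient.eq_zero_iff_mem).2 hj]
      · rw [Ideal.mem_comap, Ideal.mem_comap]
        simp only [AlgHom.comp_apply, AlgHom.coe_restrictScalars', Algebra.TensorProduct.includeRight_apply]
        rw [Algebra.algebraMap_eq_smul_one, TensorProduct.tmul_smul, TensorProduct.smul_tmul',
          ← Algebra.algebraMap_eq_smul_one, ← Algebra.TensorProduct.algebraMap_apply, IsScalarTower.algebraMap_apply R L (L ⊗[R] A), AlgHom.commutes]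
        refine Ideal.mem_map_of_mem _ ?_
        exact fun hu => hr (isUnit_of_map_unit _ _ hu)
    exact hle (hs.symm ▸ Ideal.mem_sup_left (show b ∈ RingHom.ker (Bialgebra.counitAlgHom R A) from hb))
  have hq := qe_eq_one_of_closedFibre hcon fun n _ => by
    have h := quotExt_sub_ev1_mem J _ hm (EL.e n)
    rwa [(EL.gl n).2, map_one] at h
  have hz : ∀ z, quotExt L J z = algebraMap L _ (ev1 R A L z) := fun z => by
    refine DFunLike.congr_fun (?_ : quotExt L J = (Algebra.ofId L _).comp (ev1 R A L)) z
    refine AlgHom.toLinearMap_injective (EL.e.ext fun n => ?_)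
    show qe EL J n = algebraMap L _ (ev1 R A L (EL.e n))
    rw [hq n (AddSubgroup.mem_top n), (EL.gl n).2, map_one]
  rw [RingHom.mem_ker, Bialgebra.counitAlgHom_apply] at ha
  have h1 := hz ((1 : L) ⊗ₜ[R] a)
  rw [ev1, Algebra.TensorProduct.lift_tmul] at h1
  simp [quotExt, ha] at h1
  rw [← Ideal.Quotient.eq_zero_iff_mem]
  exact Module.FaithfullyFlat.tensorProduct_mk_injective (A := R) (B := L) (A ⧸ J) (by simpa using h1)

end Groth.Agent.MultKer
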